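import Groth.Agent.Lib.StQC14.ProjAff
import Groth.Agent.Lib.PullBC11.AffineBC
import Groth.Agent.Lib.TensorNat17.Basic
import Groth.Agent.Lib.TensorMod.QCohTensor
import Groth.Prelude.Def_DDual2
import Groth.Agent.Lib.KFlat.LpullTensor

/-!
# Naturality of base change and of the projection formula along affine morphisms
-/

set_option autoImplicit false
set_option linter.style.haveILetI false
set_option backward.isDefEq.respectTransparency false

universe u

open CategoryTheory Limits AlgebraicGeometry TopologicalSpace Opposite

namespace Groth.Agent.FMAffine2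

open Scheme.Modules

variable {X S X' S' : Scheme.{u}} {f : X ⟶ S} {g : S' ⟶ S} {g' : X' ⟶ X} {f' : X' ⟶ S'}

theorem bcMap_natural (h : IsPullback g' f' f g) {F F' : X.Modules} (φ : F ⟶ F') :
    (pushforward f).map φ ≫ PullBC11.bcMap h F' =
      PullBC11.bcMap h F ≫ (pushforward g).map ((pushforward f').map ((Scheme.Modules.pullback g').map φ)) := by
  have h1 : (pushforward f).map φ ≫ (pushforward f).map ((pullbackPushforwardAdjunction g').unit.app F') =
      (pushforward f).map ((pullbackPushforwardAdjunction g').unit.app F) ≫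
        (pushforward f).map ((pushforward g').map ((Scheme.Modules.pullback g').map φ)) := by
    rw [← Functor.map_comp, ← Functor.map_comp]
    exact congrArg (pushforward f).map ((pullbackPushforwardAdjunction g').unit.naturality φ)
  simp only [PullBC11.bcMap, Category.assoc]
  rw [reassoc_of% h1]
  congr 1
  rw [show (pushforward f).map ((pushforward g').map ((Scheme.Modules.pullback g').map φ)) =
    (pushforward g' ⋙ pushforward f).map ((Scheme.Modules.pullback g').map φ) from rfl, NatTrans.naturality_assoc,
    NatTrans.naturality_assoc, NatTrans.naturality]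
  rfl

/-- The base change comparison. -/
noncomputable def theta (h : IsPullback g' f' f g) (F : X.Modules) :
    (Scheme.Modules.pullback g).obj ((pushforward f).obj F) ⟶ (pushforward f').obj ((Scheme.Modules.pullback g').obj F) :=
  ((pullbackPushforwardAdjunction g).homEquiv _ _).symm (PullBC11.bcMap h F)

theorem theta_natural (h : IsPullback g' f' f g) {F F' : X.Modules} (φ : F ⟶ F') :
    (Scheme.Modules.pullback g).map ((pushforward f).map φ) ≫ theta h F' =
      theta h F ≫ (pushforward f').map ((Scheme.Modules.pullback g').map φ) := by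
  rw [theta, theta, ← Adjunction.homEquiv_naturality_left_symm, bcMap_natural,
    Adjunction.homEquiv_naturality_right_symm]

variable {Y Z : Scheme.{u}} (j : Y ⟶ Z) (K : Z.Modules)

theorem projHom_natural {N N' : Y.Modules} (φ : N ⟶ N') :
    M2.tensorMap (𝟙 K) ((pushforward j).map φ) ≫ AmpleFin18.projHom j K N' =
      AmpleFin18.projHom j K N ≫ (pushforward j).map (M2.tensorMap (𝟙 ((Scheme.Modules.pullback j).obj K)) φ) := by
  refine M2.tensorMod_hom_ext fun U s t => ?_
  rw [M1.comp_app_apply, M1.comp_app_apply, M2.tensorMap_tsec, AmpleFin18.projHom_tsec]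
  refine Eq.symm ((congrArg _ (AmpleFin18.projHom_tsec j K N s t)).trans ?_)
  exact M2.tensorMap_tsec (U := j ⁻¹ᵁ U) (𝟙 _) φ (M2.pullSec j K s) t

/-- The projection formula with the kernel on the right. -/
noncomputable def rho (N : Y.Modules) :
    CohB1.tensorMod ((pushforward j).obj N) K ⟶ (pushforward j).obj (CohB1.tensorMod N ((Scheme.Modules.pullback j).obj K)) :=
  (M2.tensorComm _ K).hom ≫ AmpleFin18.projHom j K N ≫ (pushforward j).map (M2.tensorComm _ N).hom

theorem rho_natural {N N' : Y.Modules} (φ : N ⟶ N') :
    M2.tensorMap ((pushforward j).map φ) (𝟙 K) ≫ rho j K N' =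
      rho j K N ≫ (pushforward j).map (M2.tensorMap φ (𝟙 ((Scheme.Modules.pullback j).obj K))) := by
  simp only [rho, Category.assoc]
  rw [reassoc_of% (M2.tensorComm_natural ((pushforward j).map φ) (𝟙 K)), reassoc_of% (projHom_natural j K φ),
    ← Functor.map_comp, ← Functor.map_comp, M2.tensorComm_natural]

theorem isIso_rho [IsAffineHom j] (hK : Coh.IsQCoh K) (N : Y.Modules) (hN : Coh.IsQCoh N) :
    IsIso (rho j K N) := by
  haveI := StQC14.isIso_projHom_affine j K hK N hN
  unfold rho
  infer_instance

theorem tensorRightMod_map (M : Z.Modules) {F G : Z.Modules} (φ : F ⟶ G) :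
    (DCoh.tensorRightMod M).map φ = M2.tensorMap φ (𝟙 M) := by
  show (CohB1.sheafifyMod Z).map (MonoidalCategoryStruct.whiskerRight (C := CohB1.PMod Z) φ.val (CohB1.toPMod M)) = (M2.shf Z).map _
  rw [CategoryTheory.Functor.map_id]
  exact congrArg (M2.shf Z).map (MonoidalCategory.tensorHom_id (C := CohB1.PMod Z) _ _).symm

end Groth.Agent.FMAffine2
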